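import Groth.Agent.Lib.ModM1.Extend

/-!
# Extension of finite type submodules along a well-ordered affine cover
-/

universe u v

open CategoryTheory Limits AlgebraicGeometry Opposite TopologicalSpace

set_option backward.isDefEq.respectTransparency false

namespace Groth.Agent.ExtWO8

open Groth.Agent.M1 Groth.Agent.M1.Sub

variable {X : Scheme.{u}} {F : X.Modules}

theorem mem_ext_res' (p : Sub F) (W : X.Opens) (T : X.Opens) (s : Γ(F, T)) :
    (ext W.ι (p.res W.ι)).mem T s ↔ p.mem (T ⊓ W) (mres F inf_le_left s) := by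
  rw [mem_ext_res, ← p.mem_congr (show T ⊓ W.ι.opensRange = T ⊓ W by rw [Scheme.Opens.opensRange_ι]),
    mres_mres]

theorem exists_extend_affine (hF : Coh.IsQCoh F) (p : Sub F) {V : X.Opens} (hV : IsAffineOpen V)
    {W : X.Opens} (hWV : W ≤ V) (hW : IsCompact (W : Set X)) (hp : FTOn p W) :
    ∃ q : Sub F, FTOn q V ∧ Agree p q W := by
  haveI : IsAffine (V : Scheme.{u}) := hV
  have hc : IsCompact ((V.ι ⁻¹ᵁ W : (V : Scheme.{u}).Opens) : Set (V : Scheme.{u})) := by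
    rw [V.ι.isOpenEmbedding.isInducing.isCompact_iff]
    have e : V.ι '' (V.ι ⁻¹ᵁ W : (V : Scheme.{u}).Opens) = (W : Set X) := by
      change V.ι '' (V.ι ⁻¹' W) = _
      rw [Set.image_preimage_eq_range_inter, Scheme.Opens.range_ι, Set.inter_eq_right]
      exact hWV
    rw [e]; exact hW
  let W' : (V : Scheme.{u}).Opens := V.ι ⁻¹ᵁ W
  have hr : Set.range (W'.ι ≫ V.ι) ⊆ Set.range W.ι := by
    rw [Scheme.Opens.range_ι]
    rintro _ ⟨y, rfl⟩
    exact y.2
  let e := restrictRestrictIso p.P V.ι W'.ι (W'.ι ≫ V.ι) rfl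
  have h1 : FTOn (p.res V.ι) W' :=
    ⟨isQCoh_of_isIso e.symm (isQCoh_of_isIso (restrictLiftIso p.P W.ι (W'.ι ≫ V.ι) hr) (isQCoh_restrict hp.1 _)),
      isFT_of_isIso e.symm (isFT_of_isIso (restrictLiftIso p.P W.ι (W'.ι ≫ V.ι) hr) (isFT_restrict hp.2 _))⟩
  obtain ⟨q', hq1, hq2, hag⟩ := exists_extend_qcqs (isQCoh_restrict hF V.ι) (p.res V.ι) W' hc h1
  refine ⟨ext V.ι q', ?_, fun T hT s => ?_⟩
  · obtain ⟨e', -⟩ := exists_iso ((ext V.ι q').res V.ι) q' (mem_res_ext V.ι q')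
    exact ⟨isQCoh_of_isIso e'.symm hq1, isFT_of_isIso e'.symm hq2⟩
  · rw [mem_ext, ← hag _ (V.ι.preimage_mono hT), mem_res]
    exact (p.mem_congr (Scheme.Hom.image_preimage_eq_opensRange_inf V.ι T |>.trans (by
      rw [Scheme.Opens.opensRange_ι]; exact inf_eq_right.mpr (hT.trans hWV))).symm s).symm

theorem exists_merge (p q : Sub F) (W V : X.Opens) (hp : FTOn p W) (hq : FTOn q V) (h : Agree p q (W ⊓ V)) :
    ∃ r : Sub F, FTOn r (W ⊔ V) ∧ Agree p r W := by
  let r := inf (ext W.ι (p.res W.ι)) (ext V.ι (q.res V.ι))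
  have hW : Agree p r W := fun T hT s => by
    rw [mem_inf, mem_ext_res' q V]
    refine ⟨fun hs => ⟨(agree_ext_res p W T hT s).2 hs, ?_⟩, fun hs => (agree_ext_res p W T hT s).1 hs.1⟩
    exact (h _ (inf_le_inf_right V hT) _).1 (p.mem_mres _ hs)
  have hV : Agree q r V := fun T hT s => by
    rw [mem_inf, mem_ext_res' p W]
    refine ⟨fun hs => ⟨?_, (agree_ext_res q V T hT s).2 hs⟩, fun hs => (agree_ext_res q V T hT s).1 hs.2⟩
    exact (h _ (le_inf inf_le_right (inf_le_left.trans hT)) _).2 (q.mem_mres _ hs)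
  refine ⟨r, FTOn.of_cover ![W, V] ?_ ?_ ?_, hW⟩
  · intro i; fin_cases i
    exacts [le_sup_left, le_sup_right]
  · rintro x (hx | hx)
    exacts [⟨0, hx⟩, ⟨1, hx⟩]
  · intro i; fin_cases i
    exacts [hp.congr hW, hq.congr hV]

set_option maxHeartbeats 400000 in
theorem exists_extend (hF : Coh.IsQCoh F) {L : Type v} [LinearOrder L] [WellFoundedLT L]
    (V : L → X.Opens) (hV : ∀ l, IsAffineOpen (V l)) (hcov : ⨆ l, V l = ⊤)
    (hW : ∀ l, IsCompact ((V l : Set X) ∩ ⋃ m ∈ Set.Iio l, (V m : Set X)))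
    (p₀ : Sub F) (U : X.Opens) [QuasiCompact U.ι] (hU : FTOn p₀ U) :
    ∃ q : Sub F, Coh.IsQCoh q.P ∧ CohB1.IsFT q.P ∧ Agree p₀ q U := by
  classical
  let W : Set L → X.Opens := fun S => U ⊔ ⨆ m : S, V m.1
  have hUV : ∀ l, IsCompact ((V l : Set X) ∩ U) := fun l => by
    have h := (quasiCompact_iff_forall_isAffineOpen.mp ‹QuasiCompact U.ι› (V l) (hV l)).image U.ι.continuous
    have e : U.ι '' ((U.ι ⁻¹ᵁ V l : (U : Scheme.{u}).Opens) : Set (U : Scheme.{u})) = (V l : Set X) ∩ U := by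
      change U.ι '' (U.ι ⁻¹' (V l : Set X)) = _
      rw [Set.image_preimage_eq_range_inter, Scheme.Opens.range_ι, Set.inter_comm]
    rwa [e] at h
  let S := {w : Set L × Sub F // IsLowerSet w.1 ∧ FTOn w.2 (W w.1) ∧ Agree p₀ w.2 U}
  have hmono : ∀ {A B : Set L}, A ⊆ B → W A ≤ W B := by
    intro A B h x hx
    change x ∈ U ⊔ ⨆ m : A, V m.1 at hx
    change x ∈ U ⊔ ⨆ m : B, V m.1
    rcases hx with hx | hx
    · exact Or.inl hx
    · obtain ⟨⟨m, hm⟩, hxm⟩ := Opens.mem_iSup.mp hx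
      exact Or.inr (Opens.mem_iSup.mpr ⟨⟨m, h hm⟩, hxm⟩)
  let R : S → S → Prop := fun a b => (a.1.1 : Set L) ⊆ b.1.1 ∧ Agree a.1.2 b.1.2 (W a.1.1)
  have hrefl : ∀ a : S, R a a := fun a => ⟨fun _ h => h, fun _ _ _ => Iff.rfl⟩
  have htrans : ∀ a b c : S, R a b → R b c → R a c := fun a b c h h' =>
    ⟨fun x hx => h'.1 (h.1 hx), Agree.trans h.2 (Agree.mono h'.2 (hmono h.1))⟩
  letI : Preorder S := { le := R, le_refl := hrefl, le_trans := htrans }
  have h0 : FTOn p₀ (W ∅) := by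
    have : W ∅ = U := sup_eq_left.2 (iSup_le fun m => False.elim m.2)
    rw [this]; exact hU
  obtain ⟨⟨⟨A, q⟩, hA, hq, hqU⟩, -, hmax⟩ := zorn_le_nonempty₀ (Set.univ : Set S) (fun c _ hc a ha => by
    let ι : Type u := {O : X.Opens // ∃ b ∈ c, W b.1.1 = O}
    choose b hb hbW using fun k : ι => k.2
    obtain ⟨q, hq⟩ := exists_inter fun k : ι => ext k.1.ι ((b k).1.2.res k.1.ι)
    have hag (w : S) (hw : w ∈ c) : Agree w.1.2 q (W w.1.1) := by
      intro T hT s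
      rw [hq]
      constructor
      · intro hs k
        rw [mem_ext_res' _ k.1]
        have hs' : w.1.2.mem (T ⊓ k.1) (mres F inf_le_left s) := w.1.2.mem_mres _ hs
        rcases hc.total hw (hb k) with h | h
        · exact (h.2 _ (inf_le_left.trans hT) _).mp hs'
        · exact (h.2 _ (inf_le_right.trans (hbW k).ge) _).mpr hs'
      · intro h
        let k : ι := ⟨W w.1.1, w, hw, rfl⟩
        have hagree : Agree (b k).1.2 w.1.2 (W w.1.1) := by
          rcases hc.total hw (hb k) with h' | h'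
          · exact h'.2.symm
          · exact h'.2.mono (hbW k).ge
        exact (hagree T hT s).mp ((agree_ext_res _ k.1 T hT s).mp (h k))
    let A : Set L := ⋃ w ∈ c, w.1.1
    have hle (w : S) (hw : w ∈ c) : w.1.1 ⊆ A := Set.subset_biUnion_of_mem (u := fun w : S => w.1.1) hw
    refine ⟨⟨(A, q), isLowerSet_iUnion₂ fun w _ => w.2.1, ?_, a.2.2.2.trans ((hag a ha).mono le_sup_left)⟩,
      trivial, fun w hw => ⟨hle w hw, hag w hw⟩⟩
    refine FTOn.of_cover (fun w : c => W w.1.1.1) (fun w => hmono (hle w.1 w.2)) ?_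
      fun w => w.1.2.2.1.congr (hag w.1 w.2)
    rintro x (hx | hx)
    · exact ⟨⟨a, ha⟩, Or.inl hx⟩
    · obtain ⟨⟨m, hm⟩, hxm⟩ := Opens.mem_iSup.mp hx
      obtain ⟨w, hw, hmw⟩ := Set.mem_iUnion₂.mp hm
      exact ⟨⟨w, hw⟩, Or.inr (Opens.mem_iSup.mpr ⟨⟨m, hmw⟩, hxm⟩)⟩) ⟨(∅, p₀), isLowerSet_empty, h0, fun _ _ _ => Iff.rfl⟩ trivial
  have hall : A = Set.univ := by
    by_contra hne
    obtain ⟨l, hl, hmin⟩ := wellFounded_lt.has_min Aᶜ (Set.nonempty_compl.mpr hne)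
    have hAl : A = Set.Iio l := Set.ext fun m =>
      ⟨fun hm => lt_of_not_ge fun hle => hl (hA hle hm), fun hm => not_not.mp fun h => hmin m h hm⟩
    have hc : IsCompact ((W A ⊓ V l : X.Opens) : Set X) := by
      have e : ((W A ⊓ V l : X.Opens) : Set X) =
          ((V l : Set X) ∩ U) ∪ ((V l : Set X) ∩ ⋃ m ∈ Set.Iio l, (V m : Set X)) := by
        simp only [W, Opens.coe_inf, Opens.coe_sup, Opens.coe_iSup, hAl, Set.iUnion_coe_set,
          Set.inter_comm _ (V l : Set X), Set.inter_union_distrib_left]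
      rw [e]; exact (hUV l).union (hW l)
    have hqW : FTOn q (W A ⊓ V l) := by
      have hr : Set.range (W A ⊓ V l).ι ⊆ Set.range (W A).ι := by
        simp only [Scheme.Opens.range_ι]; exact fun x hx => hx.1
      exact ⟨isQCoh_of_isIso (restrictLiftIso q.P (W A).ι _ hr) (isQCoh_restrict hq.1 _),
        isFT_of_isIso (restrictLiftIso q.P (W A).ι _ hr) (isFT_restrict hq.2 _)⟩
    obtain ⟨q', hq', hag'⟩ := exists_extend_affine hF q (hV l) inf_le_right hc hqW
    obtain ⟨r, hr, hag⟩ := exists_merge q q' (W A) (V l) hq hq' hag'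
    have hW' : W (insert l A) = W A ⊔ V l := by
      ext x
      change x ∈ U ⊔ ⨆ m : (insert l A : Set L), V m.1 ↔ x ∈ (U ⊔ ⨆ m : A, V m.1) ⊔ V l
      constructor
      · rintro (hx | hx)
        · exact Or.inl (Or.inl hx)
        · obtain ⟨⟨m, hm⟩, hxm⟩ := Opens.mem_iSup.mp hx
          rcases hm with rfl | hm
          · exact Or.inr hxm
          · exact Or.inl (Or.inr (Opens.mem_iSup.mpr ⟨⟨m, hm⟩, hxm⟩))
      · rintro ((hx | hx) | hx)
        · exact Or.inl hx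
        · obtain ⟨⟨m, hm⟩, hxm⟩ := Opens.mem_iSup.mp hx
          exact Or.inr (Opens.mem_iSup.mpr ⟨⟨m, Set.mem_insert_of_mem _ hm⟩, hxm⟩)
        · exact Or.inr (Opens.mem_iSup.mpr ⟨⟨l, Set.mem_insert _ _⟩, hx⟩)
    have hlow : IsLowerSet (insert l A) := by
      rw [hAl]
      rintro a b hba (rfl | ha)
      · exact (hba.lt_or_eq).elim Or.inr Or.inl
      · exact Or.inr (hba.trans_lt ha)
    let y : S := ⟨(insert l A, r), hlow, by rw [hW']; exact hr, hqU.trans (hag.mono le_sup_left)⟩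
    have hy := hmax.2 (y := y) trivial ⟨Set.subset_insert _ _, hag⟩
    exact hl (hy.1 (Set.mem_insert _ _))
  have htop (x : X) : x ∈ W A := by
    have hx : x ∈ (⊤ : X.Opens) := trivial
    rw [← hcov, Opens.mem_iSup] at hx
    obtain ⟨l, hl⟩ := hx
    exact Or.inr (Opens.mem_iSup.mpr ⟨⟨l, hall ▸ Set.mem_univ l⟩, hl⟩)
  refine ⟨q, ?_, ?_, hqU⟩
  · exact isQCoh_of_openImmersion_cover (fun _ : PUnit.{1} => (W A).ι)
      (fun x => ⟨⟨⟩, by rw [Scheme.Opens.range_ι]; exact htop x⟩) fun _ => hq.1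
  · exact isFT_of_openImmersion_cover (fun _ : PUnit.{1} => (W A).ι)
      (fun x => ⟨⟨⟩, by rw [Scheme.Opens.range_ι]; exact htop x⟩) fun _ => hq.2

end Groth.Agent.ExtWO8
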